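import Cfsg.Agent.RuLattice.Span

/-! Norms in the span are divisible by eight and avoid eight. -/

set_option autoImplicit false
set_option Elab.async false
set_option maxRecDepth 100000
set_option linter.unusedSimpArgs false

open Finset

namespace CfsgLib.RuLattice

/-- The inner product. -/
def dot (a b : Z56) : ℤ := ∑ i, a i * b i

theorem dot_vecL {a b : List ℤ} (ha : a.length = 56) (hb : b.length = 56) :
    dot (vecL a) (vecL b) = dotL a b := by
  rw [dotL, show List.zipWith (· * ·) a b = List.ofFn fun i : Fin 56 => vecL a i * vecL b i from ?_,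
    List.sum_ofFn]
  · rfl
  · refine List.ext_getElem (by simp [ha, hb]) fun n h1 h2 => ?_
    rw [List.getElem_zipWith, List.getElem_ofFn, vecL, vecL, List.getD_eq_getElem, List.getD_eq_getElem]

theorem dot_row (j k : Fin 40) : dot (row j) (row k) = dotL (rows.getD j.val []) (rows.getD k.val []) :=
  dot_vecL (rows_shape.2 _ (by
      rw [List.getD_eq_getElem _ _ (by rw [rows_shape.1]; exact j.2)]; exact List.getElem_mem _))
    (rows_shape.2 _ (by
      rw [List.getD_eq_getElem _ _ (by rw [rows_shape.1]; exact k.2)]; exact List.getElem_mem _))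

theorem gram_rows (j k : Fin 40) : (4 : ℤ) ∣ dot (row j) (row k) ∧ (8 : ℤ) ∣ dot (row j) (row j) := by
  have h : (rows.all fun a => dotL a a % 8 == 0 && rows.all fun b => dotL a b % 4 == 0) = true := by
    decide +kernel
  have hm : ∀ k : Fin 40, rows.getD k.val [] ∈ rows := fun k => by
    rw [List.getD_eq_getElem _ _ (by rw [rows_shape.1]; exact k.2)]; exact List.getElem_mem _
  have h1 := List.all_eq_true.1 h _ (hm j)
  simp only [Bool.and_eq_true, beq_iff_eq, List.all_eq_true] at h1
  rw [dot_row, dot_row]
  exact ⟨Int.dvd_of_emod_eq_zero (h1.2 _ (hm k)), Int.dvd_of_emod_eq_zero h1.1⟩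

theorem comb_norm (c : Fin 40 → ℤ) (s : Finset (Fin 40)) :
    (8 : ℤ) ∣ dot (fun i => ∑ k ∈ s, c k * row k i) (fun i => ∑ k ∈ s, c k * row k i) ∧
      ∀ j, (4 : ℤ) ∣ dot (fun i => ∑ k ∈ s, c k * row k i) (row j) := by
  induction s using Finset.induction with
  | empty => simp [dot]
  | @insert a s ha ih =>
    have e : ∀ b : Z56, dot (fun i => ∑ k ∈ insert a s, c k * row k i) b =
        c a * dot (row a) b + dot (fun i => ∑ k ∈ s, c k * row k i) b := fun b => by
      simp only [dot, sum_insert ha, mul_sum, ← sum_add_distrib]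
      exact sum_congr rfl fun i _ => by ring
    have comm : ∀ a b : Z56, dot a b = dot b a := fun a b => by simp [dot, mul_comm]
    refine ⟨?_, fun j => ?_⟩
    · rw [e, comm (row a), e, comm _ (fun i => ∑ k ∈ insert a s, c k * row k i), e]
      obtain ⟨p, hp⟩ := (gram_rows a a).2
      obtain ⟨q, hq⟩ := ih.2 a
      obtain ⟨r, hr⟩ := ih.1
      refine ⟨c a * c a * p + c a * q + r, ?_⟩
      rw [comm (row a) (fun i => ∑ k ∈ s, c k * row k i), hp, hq, hr]
      ring
    · rw [e]
      exact dvd_add (dvd_mul_of_dvd_right (gram_rows a j).1 _) (ih.2 j)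

theorem span_norm {v : Z56} (hv : v ∈ span4) :
    (8 : ℤ) ∣ dot v v ∧ ∀ j, (4 : ℤ) ∣ dot v (row j) := by
  obtain ⟨c, hc⟩ := hv
  choose z hz using hc
  obtain ⟨h1, h2⟩ := comb_norm c univ
  have hv' : ∀ i, v i = (∑ k, c k * row k i) + 4 * z i := fun i => by have := hz i; linarith
  refine ⟨?_, fun j => ?_⟩
  · obtain ⟨w, hw⟩ : ∃ w : Z56, (fun i => ∑ k, c k * row k i) = w := ⟨_, rfl⟩
    have hw' : ∀ i, v i = w i + 4 * z i := fun i => by rw [hv' i, ← hw]
    rw [hw] at h1
    have e : dot v v = dot w w + 8 * ∑ i, (z i * w i + 2 * (z i * z i)) := by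
      simp only [dot, mul_sum, ← sum_add_distrib]
      exact sum_congr rfl fun i _ => by rw [hw' i]; ring
    rw [e]
    exact dvd_add h1 (dvd_mul_right _ _)
  · have e : dot v (row j) = dot (fun i => ∑ k, c k * row k i) (row j) + 4 * ∑ i, z i * row j i := by
      simp only [dot, mul_sum, ← sum_add_distrib]
      exact sum_congr rfl fun i _ => by rw [hv' i, add_mul, sum_mul]; ring
    rw [e]
    exact dvd_add (h2 j) (dvd_mul_right _ _)

/-- The parity word. -/
def mask (v : Z56) : ℕ := Nat.ofBits fun i : Fin 56 => decide (v i % 2 = 1)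

theorem testBit_mask (v : Z56) (n : ℕ) :
    (mask v).testBit n = if h : n < 56 then decide (v ⟨n, h⟩ % 2 = 1) else false := by
  split_ifs with h
  · exact Nat.testBit_ofBits_lt _ _ h
  · exact Nat.testBit_ofBits_ge _ _ (not_lt.1 h)

theorem mask_add (v w : Z56) : mask (v + w) = mask v ^^^ mask w := by
  refine Nat.eq_of_testBit_eq fun n => ?_
  simp only [Nat.testBit_xor, testBit_mask]
  split_ifs with h
  · simp only [Pi.add_apply]
    rcases Int.emod_two_eq (v ⟨n, h⟩) with a | a <;> rcases Int.emod_two_eq (w ⟨n, h⟩) with b | b <;>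
      simp [Int.add_emod, a, b]
  · rfl

theorem mask_congr {v w : Z56} (h : ∀ i, v i % 2 = w i % 2) : mask v = mask w := by
  simp only [mask, h]

/-- The word with given information bits. -/
def fromInfo : List ℕ → List ℕ → ℕ → ℕ
  | p :: ps, w :: ws, m => (if m.testBit p then w else 0) ^^^ fromInfo ps ws m
  | _, _, _ => 0

theorem fromInfo_xor : ∀ (ps ws : List ℕ) (a b : ℕ),
    fromInfo ps ws (a ^^^ b) = fromInfo ps ws a ^^^ fromInfo ps ws b := by
  intro ps
  induction ps with
  | nil => intro ws a b; simp [fromInfo]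
  | cons p ps ih =>
    intro ws a b
    cases ws with
    | nil => simp [fromInfo]
    | cons w ws =>
      simp only [fromInfo, ih, Nat.testBit_xor]
      rcases Bool.eq_false_or_eq_true (a.testBit p) with x | x <;>
        rcases Bool.eq_false_or_eq_true (b.testBit p) with y | y <;>
        simp [x, y, Nat.xor_assoc, Nat.xor_comm, Nat.xor_left_comm]

theorem mask_fromInfo {ps ws : List ℕ}
    (h : ∀ k : Fin 40, fromInfo ps ws (mask (row k)) = mask (row k)) {v : Z56} (hv : v ∈ span4) :
    fromInfo ps ws (mask v) = mask v := by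
  obtain ⟨c, hc⟩ := hv
  have h0 : mask (fun _ => 0) = 0 := Nat.eq_of_testBit_eq fun n => by
    simp [testBit_mask]
  have hf0 : fromInfo ps ws 0 = 0 := by
    have := fromInfo_xor ps ws 0 0
    simpa using this
  have key : ∀ s : Finset (Fin 40), fromInfo ps ws (mask (fun i => ∑ k ∈ s, c k * row k i)) =
      mask (fun i => ∑ k ∈ s, c k * row k i) := by
    intro s
    induction s using Finset.induction with
    | empty => simp only [sum_empty, h0, hf0]
    | @insert a s ha ih =>
      have e : mask (fun i => ∑ k ∈ insert a s, c k * row k i) =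
          (if c a % 2 = 1 then mask (row a) else 0) ^^^ mask (fun i => ∑ k ∈ s, c k * row k i) := by
        rw [show (fun i => ∑ k ∈ insert a s, c k * row k i) =
          (fun i => c a * row a i) + fun i => ∑ k ∈ s, c k * row k i from
            funext fun i => sum_insert ha, mask_add]
        congr 1
        rcases Int.emod_two_eq (c a) with q | q
        · rw [if_neg (by omega)]
          rw [← h0]
          exact mask_congr fun i => by simp [Int.mul_emod, q]
        · rw [if_pos q]
          exact mask_congr fun i => by simp [Int.mul_emod, q]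
      rw [e, fromInfo_xor, ih]
      by_cases q : c a % 2 = 1 <;> simp [q, h a, hf0]
  have hm : mask v = mask (fun i => ∑ k, c k * row k i) :=
    mask_congr fun i => by have := hc i; omega
  rw [hm]
  exact key univ

/-- Enumeration of the words with few information bits. -/
def enumWords (P : ℕ → Bool) : List ℕ → ℕ → ℕ → Bool
  | [], _, acc => P acc
  | w :: ws, b, acc =>
    enumWords P ws b acc && (match b with
      | 0 => true
      | b' + 1 => enumWords P ws b' (acc ^^^ w))

theorem enumWords_sound (P : ℕ → Bool) : ∀ (ps ws : List ℕ) (b acc m : ℕ), ps.length = ws.length →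
    (ps.countP fun p => m.testBit p) ≤ b → enumWords P ws b acc = true →
    P (acc ^^^ fromInfo ps ws m) = true := by
  intro ps
  induction ps with
  | nil =>
    intro ws b acc m hl _ h
    obtain rfl : ws = [] := List.eq_nil_of_length_eq_zero hl.symm
    simpa [fromInfo, enumWords] using h
  | cons p ps ih =>
    intro ws b acc m hl hb h
    cases ws with
    | nil => simp at hl
    | cons w ws =>
      simp only [enumWords, Bool.and_eq_true] at h
      simp only [List.length_cons, Nat.add_right_cancel_iff] at hl
      rw [List.countP_cons] at hb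
      rw [fromInfo]
      by_cases hp : m.testBit p = true
      · rw [if_pos hp] at hb
        cases b with
        | zero => omega
        | succ b' =>
          rw [if_pos hp, ← Nat.xor_assoc]
          exact ih ws b' _ m hl (by omega) h.2
      · rw [if_neg hp] at hb
        rw [if_neg hp, Nat.zero_xor]
        exact ih ws b acc m hl (by omega) h.1

/-- A bit count up to `n`. -/
def popTo : ℕ → ℕ → ℕ
  | 0, _ => 0
  | n + 1, m => (if m.testBit n then 1 else 0) + popTo n m

theorem popTo_eq : ∀ n m, popTo n m = ((Finset.range n).filter fun i => m.testBit i).card := by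
  intro n m
  induction n with
  | zero => simp [popTo]
  | succ n ih =>
    rw [popTo, ih, range_add_one, filter_insert]
    split_ifs with h
    · rw [card_insert_of_notMem (by simp)]; omega
    · omega

/-- The test on a word. -/
def wordOK (w : ℕ) : Bool := w == 0 || 8 < popTo 56 w || shortWords.contains w

theorem enum_ok_one : enumWords wordOK words1 4 0 = true := by decide +kernel

theorem enum_ok_two : enumWords wordOK words2 4 0 = true := by decide +kernel

theorem enum_ok : enumWords wordOK words1 4 0 = true ∧ enumWords wordOK words2 4 0 = true :=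
  ⟨enum_ok_one, enum_ok_two⟩

theorem info_ok : info1.length = words1.length ∧ info2.length = words2.length ∧
    (info1 ++ info2).Nodup ∧ (info1 ++ info2).all (fun p => p < 56) = true := by decide +kernel

theorem rows_info : ∀ k : Fin 40, fromInfo info1 words1 (mask (row k)) = mask (row k) ∧
    fromInfo info2 words2 (mask (row k)) = mask (row k) := by decide +kernel

theorem mask_small {v : Z56} (hv : v ∈ span4) (h : popTo 56 (mask v) ≤ 8) :
    mask v = 0 ∨ mask v ∈ shortWords := by
  have hb : (info1.countP fun p => (mask v).testBit p) + (info2.countP fun p => (mask v).testBit p) ≤ 8 := by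
    rw [← List.countP_append, List.countP_eq_length_filter]
    refine le_trans ?_ h
    rw [popTo_eq, ← List.toFinset_card_of_nodup (info_ok.2.2.1.filter _)]
    refine card_le_card fun p hp => ?_
    rw [List.mem_toFinset, List.mem_filter] at hp
    have hlt := List.all_eq_true.1 info_ok.2.2.2 p hp.1
    rw [mem_filter, mem_range]
    exact ⟨by simpa using hlt, hp.2⟩
  have key : wordOK (mask v) = true := by
    rcases Nat.lt_or_ge 4 (info1.countP fun p => (mask v).testBit p) with h1 | h1
    · have := enumWords_sound wordOK info2 words2 4 0 (mask v) info_ok.2.1 (by omega) enum_ok.2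
      rwa [Nat.zero_xor, mask_fromInfo (fun k => (rows_info k).2) hv] at this
    · have := enumWords_sound wordOK info1 words1 4 0 (mask v) info_ok.1 h1 enum_ok.1
      rwa [Nat.zero_xor, mask_fromInfo (fun k => (rows_info k).1) hv] at this
  simp only [wordOK, Bool.or_eq_true, beq_iff_eq, decide_eq_true_eq, List.contains_iff_mem] at key
  rcases key with (k | k) | k
  · exact Or.inl k
  · omega
  · exact Or.inr k

/-- All signings of some columns leave a row product nonzero modulo four. -/
def signsOK : List (List ℤ) → List ℤ → Bool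
  | [], acc => acc.any fun x => !(x % 4 == 0)
  | col :: cs, acc =>
    signsOK cs (List.zipWith (· + ·) acc col) && signsOK cs (List.zipWith (· - ·) acc col)

/-- The column of the rows at a position. -/
def colAt (p : ℕ) : List ℤ := rows.map fun r => r.getD p 0

theorem signsOK_sound (v : Z56) : ∀ (ps : List ℕ) (acc : List ℤ), acc.length = 40 →
    (∀ p ∈ ps, p < 56) → (∀ p (hp : p < 56), p ∈ ps → v ⟨p, hp⟩ = 1 ∨ v ⟨p, hp⟩ = -1) →
    signsOK (ps.map colAt) acc = true →
    ∃ k : Fin 40, ¬ (4 : ℤ) ∣ acc.getD k.val 0 +
      (ps.map fun p => (if h : p < 56 then v ⟨p, h⟩ else 0) * (rows.getD k.val []).getD p 0).sum := by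
  intro ps
  induction ps with
  | nil =>
    intro acc hl _ _ h
    simp only [List.map_nil, signsOK, List.any_eq_true, Bool.not_eq_true', beq_eq_false_iff_ne] at h
    obtain ⟨x, hx, hne⟩ := h
    obtain ⟨n, hn, rfl⟩ := List.mem_iff_getElem.1 hx
    refine ⟨⟨n, hl ▸ hn⟩, fun hd => hne ?_⟩
    simp only [List.map_nil, List.sum_nil, add_zero] at hd
    rw [List.getD_eq_getElem _ _ hn] at hd
    omega
  | cons p ps ih =>
    intro acc hl hlt hv h
    simp only [List.map_cons, signsOK, Bool.and_eq_true] at h
    have hp : p < 56 := hlt p List.mem_cons_self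
    have hcl : (colAt p).length = 40 := by simp [colAt, rows_shape.1]
    have hget : ∀ k : Fin 40, (colAt p).getD k.val 0 = (rows.getD k.val []).getD p 0 := fun k => by
      have hk : k.val < rows.length := by rw [rows_shape.1]; exact k.2
      rw [List.getD_eq_getElem _ _ (by rw [hcl]; exact k.2), List.getD_eq_getElem rows _ hk]
      simp [colAt]
    rcases hv p hp List.mem_cons_self with e | e
    · obtain ⟨k, hk⟩ := ih _ (by simp [hl, hcl]) (fun q hq => hlt q (List.mem_cons_of_mem _ hq))
        (fun q hq hm => hv q hq (List.mem_cons_of_mem _ hm)) h.1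
      refine ⟨k, fun hd => hk ?_⟩
      rw [List.getD_eq_getElem _ _ (by simp [hl, hcl]), List.getElem_zipWith]
      rw [List.map_cons, List.sum_cons, dif_pos hp, e, one_mul, ← hget,
        List.getD_eq_getElem _ _ (by rw [hl]; exact k.2), List.getD_eq_getElem _ _ (by rw [hcl]; exact k.2)] at hd
      rwa [← add_assoc] at hd
    · obtain ⟨k, hk⟩ := ih _ (by simp [hl, hcl]) (fun q hq => hlt q (List.mem_cons_of_mem _ hq))
        (fun q hq hm => hv q hq (List.mem_cons_of_mem _ hm)) h.2
      refine ⟨k, fun hd => hk ?_⟩
      rw [List.getD_eq_getElem _ _ (by simp [hl, hcl]), List.getElem_zipWith]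
      rw [List.map_cons, List.sum_cons, dif_pos hp, e, neg_one_mul, ← hget,
        List.getD_eq_getElem _ _ (by rw [hl]; exact k.2), List.getD_eq_getElem _ _ (by rw [hcl]; exact k.2)] at hd
      rwa [← add_assoc, ← sub_eq_add_neg] at hd

theorem short_ok : (shortPos.all fun ps => signsOK (ps.map colAt) (List.replicate 40 0)) = true ∧
    shortWords = shortPos.map (fun ps => (ps.map fun p => 2 ^ p).sum) ∧
    (shortPos.all fun ps => ps.length == 8 && decide (ps.Nodup) && ps.all fun p => p < 56) = true ∧
    (shortPos.all fun ps => ps.all fun p => (ps.map fun q => 2 ^ q).sum.testBit p) = true := by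
  decide +kernel

theorem pair_ok : ((List.range 56).all fun i => (List.range 56).all fun j => i == j ||
    rows.any fun r => (r.getD i 0 + r.getD j 0) % 2 == 1) = true := by decide +kernel

theorem norm_ne_eight {v : Z56} (hv : v ∈ span4) : dot v v ≠ 8 := by
  intro h8
  have hd := (span_norm hv).2
  have hpop : popTo 56 (mask v) ≤ 8 := by
    have h1 : (popTo 56 (mask v) : ℤ) ≤ 8 := by
      rw [← h8, popTo_eq, card_filter, Nat.cast_sum, Finset.sum_range]
      refine sum_le_sum fun i _ => ?_
      rw [testBit_mask, dif_pos i.2]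
      by_cases e : v i % 2 = 1
      · have : v i ≠ 0 := by omega
        simp [e]
        nlinarith [Int.one_le_abs this, sq_abs (v i)]
      · simp [e]; exact mul_self_nonneg _
    exact_mod_cast h1
  rcases mask_small hv hpop with hm | hm
  · have heven : ∀ i, (2 : ℤ) ∣ v i := fun i => by
      have := testBit_mask v i.val
      rw [hm, Nat.zero_testBit, dif_pos i.2] at this
      simp at this
      omega
    choose u hu using heven
    have hu2 : ∑ i, u i * u i = 2 := by
      have : dot v v = 4 * ∑ i, u i * u i := by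
        rw [dot, mul_sum]; exact sum_congr rfl fun i _ => by rw [hu i]; ring
      omega
    have hvals : ∀ i, u i = 0 ∨ u i = 1 ∨ u i = -1 := fun i => by
      have h1 : u i * u i ≤ 2 := hu2 ▸ single_le_sum (fun j _ => mul_self_nonneg (u j)) (mem_univ i)
      have : -1 ≤ u i ∧ u i ≤ 1 := ⟨by nlinarith, by nlinarith⟩
      omega
    have hc : (univ.filter fun i => u i ≠ 0).card = 2 := by
      have : ∀ i, u i * u i = if u i ≠ 0 then 1 else 0 := fun i => by
        rcases hvals i with e | e | e <;> simp [e]
      rw [sum_congr rfl fun i _ => this i, sum_boole] at hu2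
      exact_mod_cast hu2
    obtain ⟨p, q, hpq, he⟩ := card_eq_two.1 hc
    have hp := List.all_eq_true.1 (List.all_eq_true.1 pair_ok p.val (List.mem_range.2 p.2)) q.val
      (List.mem_range.2 q.2)
    simp only [Bool.or_eq_true, beq_iff_eq, List.any_eq_true] at hp
    rcases hp with e | ⟨r, hr, hodd⟩
    · exact hpq (Fin.ext e)
    obtain ⟨n, hn, rfl⟩ := List.mem_iff_getElem.1 hr
    have hk := hd ⟨n, rows_shape.1 ▸ hn⟩
    have e : ∀ i, row ⟨n, rows_shape.1 ▸ hn⟩ i = rows[n].getD i.val 0 := fun i => by
      rw [row, List.getD_eq_getElem _ _ hn]; rfl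
    have hsum : dot v (row ⟨n, rows_shape.1 ▸ hn⟩) =
        2 * (u p * rows[n].getD p.val 0 + u q * rows[n].getD q.val 0) := by
      rw [dot, ← sum_subset (subset_univ {p, q}) fun i _ hi => ?_, sum_pair hpq]
      · rw [hu p, hu q, e, e]; ring
      · have : u i = 0 := by
          by_contra hne
          exact hi (he ▸ mem_filter.2 ⟨mem_univ _, hne⟩)
        rw [hu i, this]; ring
    rw [hsum] at hk
    have hp' : u p ≠ 0 := (mem_filter.1 (he.ge (mem_insert_self p {q}))).2
    have hq' : u q ≠ 0 := (mem_filter.1 (he.ge (mem_insert_of_mem (mem_singleton_self q)))).2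
    rcases hvals p with a | a | a <;> rcases hvals q with b | b | b <;>
      first | exact absurd a hp' | exact absurd b hq' | (rw [a, b] at hk; omega)
  · obtain ⟨hsg, hw, hshape, hbits⟩ := short_ok
    rw [hw, List.mem_map] at hm
    obtain ⟨ps, hps, hmask⟩ := hm
    have h1 := List.all_eq_true.1 hshape ps hps
    simp only [Bool.and_eq_true, beq_iff_eq, decide_eq_true_eq, List.all_eq_true] at h1
    obtain ⟨⟨hlen, hnd⟩, hlt⟩ := h1
    have hodd : ∀ p (hp : p < 56), p ∈ ps → v ⟨p, hp⟩ % 2 = 1 := fun p hp hm => by
      have := List.all_eq_true.1 (List.all_eq_true.1 hbits ps hps) p hm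
      rw [hmask, testBit_mask, dif_pos hp] at this
      simpa using this
    set S : Finset (Fin 56) := univ.filter fun i => i.val ∈ ps with hS
    have hScard : S.card = 8 := by
      rw [← hlen, ← List.toFinset_card_of_nodup hnd]
      refine card_bij (fun i _ => i.val) (fun i hi => List.mem_toFinset.2 (mem_filter.1 hi).2)
        (fun a _ b _ e => Fin.ext e) fun p hp => ?_
      exact ⟨⟨p, hlt p (List.mem_toFinset.1 hp)⟩, by simpa [hS] using List.mem_toFinset.1 hp, rfl⟩
    have hge : ∀ i ∈ S, 0 ≤ v i * v i - 1 := fun i hi => by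
      have h' : v i % 2 = 1 := hodd i.val i.2 (mem_filter.1 hi).2
      have : v i ≠ 0 := by omega
      nlinarith [Int.one_le_abs this, sq_abs (v i)]
    have hsplit := sum_add_sum_compl S (fun i => v i * v i)
    have hnn : 0 ≤ ∑ i ∈ Sᶜ, v i * v i := sum_nonneg fun i _ => mul_self_nonneg _
    have hS1 : ∑ i ∈ S, (v i * v i - 1) = (∑ i ∈ S, v i * v i) - 8 := by
      rw [sum_sub_distrib, sum_const, hScard]; norm_num
    have hS0 := sum_nonneg hge
    rw [dot] at h8
    have hone : ∀ i ∈ S, v i = 1 ∨ v i = -1 := fun i hi => by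
      have := (sum_eq_zero_iff_of_nonneg hge).1 (by omega) i hi
      exact sq_eq_one_iff.1 (by rw [sq]; omega)
    have hzero : ∀ i ∈ Sᶜ, v i = 0 := fun i hi => mul_self_eq_zero.1
      ((sum_eq_zero_iff_of_nonneg fun j _ => mul_self_nonneg (v j)).1 (by omega) i hi)
    obtain ⟨k, hk⟩ := signsOK_sound v ps (List.replicate 40 0) (by simp) (fun p hp => hlt p hp)
      (fun p hp hm => hone ⟨p, hp⟩ (by simp [hS, hm])) (List.all_eq_true.1 hsg ps hps)
    apply hk
    have hz : (List.replicate 40 (0 : ℤ)).getD k.val 0 = 0 := by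
      rw [List.getD_eq_getElem _ _ (by simp)]; exact List.getElem_replicate _
    rw [hz, zero_add]
    refine dvd_trans (hd k) (dvd_of_eq ?_)
    rw [← List.sum_toFinset _ hnd, dot,
      ← sum_subset (subset_univ S) fun i _ hi => by rw [hzero i (mem_compl.2 hi), zero_mul]]
    refine sum_bij (fun i _ => i.val) (fun i hi => List.mem_toFinset.2 (mem_filter.1 hi).2)
      (fun a _ b _ e => Fin.ext e) (fun p hp => ?_) fun i hi => ?_
    · exact ⟨⟨p, hlt p (List.mem_toFinset.1 hp)⟩, by simpa [hS] using List.mem_toFinset.1 hp, rfl⟩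
    · rw [dif_pos i.2]; rfl

end CfsgLib.RuLattice
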